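import Mathlib
import Cfsg.Agent.H29.OM.D0
import Cfsg.Agent.H19.PM

set_option autoImplicit false
set_option maxRecDepth 100000
set_option Elab.async false
set_option linter.all false

namespace H29.OM

open H19
noncomputable def PCM : ℕ := geo (2 ^ 21 - 1) 945 45
noncomputable def PRM : ℕ := 2 ^ 945 - 1
noncomputable def PQM : ℕ := geo2 (2 ^ 8 - 1) 21 45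
noncomputable def Pone : ℕ := geo 1 966 45
noncomputable abbrev P : PM := ⟨7, 45, 21, 1171, 13, 945, PCM, PRM, PQM, Pone⟩
theorem Pok : P.OK := PM.ok_of_chk (by decide +kernel)
noncomputable def lcl : List ℕ := [m0, m1, m2, m3, m4, m5, m6, m7]
noncomputable def lc : ℕ → ℕ := nth P.one lcl
def ivl : List ℕ := [0, 1, 2, 3, 4, 5, 7, 6]
theorem hii : ∀ c, ivOf ivl (ivOf ivl c) = c := ivOf_ivOf (by decide +kernel)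
def G0 : List (List ℕ) := [[0, 1, 0, 1, 0, 1], [0, 2, 0, 2], [0, 3, 0, 3], [0, 4, 0, 4], [0, 5, 0, 5], [1, 2, 1, 2, 1, 2], [1, 3, 1, 3], [1, 4, 1, 4], [1, 5, 1, 5], [2, 3, 2, 3, 2, 3, 2, 3, 2, 3, 2, 3, 2, 3, 2, 3], [2, 4, 2, 4], [2, 5, 2, 5], [3, 4, 3, 4, 3, 4], [3, 5, 3, 5], [4, 5, 4, 5, 4, 5], [0, 5, 7, 7], [0, 5, 3, 2, 3, 2, 3, 2, 3, 2], [2, 7, 3, 7, 3, 2, 3, 6, 3, 6], [3, 7, 2, 7, 2, 3, 2, 6, 2, 6], [6, 1, 2, 6, 2, 1, 6, 1, 2, 6, 2, 7, 3, 2, 1, 7, 3, 2, 1, 7, 3, 2, 1, 7, 3, 2, 1, 7, 3, 2, 1], [6, 4, 3, 6, 3, 4, 6, 4, 3, 6, 3, 7, 3, 2, 1, 7, 3, 2, 1, 7, 3, 2, 1, 7, 3, 2, 1, 7, 3, 2, 1], [1, 2, 3, 6, 1, 2, 3, 6, 1, 2, 3, 6, 1, 2, 3, 6, 1, 2, 3, 6, 1, 2, 3, 6, 1, 2, 3, 6, 1, 2, 3, 6, 1, 2, 3, 6,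 1, 2, 3, 6, 1, 2, 3, 6, 1, 2, 3, 6, 1, 2, 3, 6, 1, 2, 3, 6, 1, 2, 3, 6], [0, 1, 2, 3, 6, 1, 2, 3, 6, 1, 2, 3, 6, 1, 2, 3, 6, 1, 2, 3, 6, 0, 7, 3, 2, 1, 7, 3, 2, 1, 7, 3, 2, 1, 7, 3, 2, 1, 7, 3, 2, 1]]
def G1 : List (List ℕ) := [[2, 3, 6, 1, 2, 3, 6, 1, 2, 3, 6, 1, 2, 3, 6, 1, 2, 3, 6, 1, 7, 3, 2, 1, 7, 3, 2, 1, 7, 3, 2, 1, 7, 3, 2, 1, 7, 3, 2, 1], [2, 1, 2, 3, 6, 1, 2, 3, 6, 1, 2, 3, 6, 1, 2, 3, 6, 1, 2, 3, 6, 2, 7, 3, 2, 1, 7, 3, 2, 1, 7, 3, 2, 1, 7, 3, 2, 1, 7, 3, 2, 1], [3, 1, 2, 3, 6, 1, 2, 3, 6, 1, 2, 3, 6, 1, 2, 3, 6, 1, 2, 3, 6, 3, 7, 3, 2, 1, 7, 3, 2, 1, 7, 3, 2, 1, 7, 3, 2, 1, 7, 3, 2, 1], [4, 1, 2, 3, 6, 1, 2, 3, 6, 1, 2, 3, 6, 1, 2, 3, 6, 1, 2, 3, 6, 4, 7, 3, 2, 1, 7, 3, 2, 1, 7, 3, 2,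 1, 7, 3, 2, 1, 7, 3, 2, 1], [5, 1, 2, 3, 6, 1, 2, 3, 6, 1, 2, 3, 6, 1, 2, 3, 6, 1, 2, 3, 6, 5, 7, 3, 2, 1, 7, 3, 2, 1, 7, 3, 2, 1, 7, 3, 2, 1, 7, 3, 2, 1], [6, 1, 2, 3, 6, 1, 2, 3, 6, 1, 2, 3, 6, 1, 2, 3, 6, 1, 2, 3, 7, 3, 2, 1, 7, 3, 2, 1, 7, 3, 2, 1, 7, 3, 2, 1, 7, 3, 2, 1], [7, 1, 2, 3, 6, 1, 2, 3, 6, 1, 2, 3, 6, 1, 2, 3, 6, 1, 2, 3, 6, 3, 2, 1, 7, 3, 2, 1, 7, 3, 2, 1, 7, 3, 2, 1, 7, 3, 2, 1]]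

end H29.OM
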